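import Mathlib

/-! The degree of a separable finitely generated field extension over the compositum of the
constants and the `p`-th powers. -/

set_option autoImplicit false
universe u v

namespace Groth.Agent.FrobTwist31

open IntermediateField MvPolynomial

variable (p : ℕ) [Fact p.Prime] {k : Type u} [Field k] {K : Type v} [Field K] [Algebra k K]

/-- `k(t^p)` inside `K`. -/
noncomputable abbrev powField {σ : Type*} (t : σ → K) : IntermediateField k K :=
  adjoin k (Set.range fun i => t i ^ p)

variable {σ : Type*} (t : σ → K)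

/-- A monomial with exponents less than `p`. -/
def mon [Fintype σ] (e : σ → Fin p) : K := ∏ i, t i ^ (e i : ℕ)

theorem mon_eq_aeval [Fintype σ] (e : σ → Fin p) :
    mon p t e = aeval t (monomial (Finsupp.equivFunOnFinite.symm fun i => (e i : ℕ)) (1 : k)) := by
  rw [aeval_monomial, map_one, one_mul, Finsupp.prod_fintype _ _ (fun i => pow_zero _)]
  rfl

theorem linearIndependent_mon [Fintype σ] (ht : AlgebraicIndependent k t) :
    LinearIndependent (powField p (k := k) t) (mon p t) := by
  classical
  have hp : 0 < p := (Fact.out : p.Prime).pos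
  rw [Fintype.linearIndependent_iff]
  intro c hc
  have hmem : ∀ e, ∃ r s : MvPolynomial σ k, aeval t (expand p s) ≠ 0 ∧
      (c e : K) = aeval t (expand p r) / aeval t (expand p s) := by
    intro e
    obtain ⟨r, s, hrs⟩ := (mem_adjoin_range_iff k _ _).1 (c e).2
    have key : ∀ P : MvPolynomial σ k, aeval (fun i => t i ^ p) P = aeval t (expand p P) := fun P => by
      rw [aeval_expand]; rfl
    rw [key, key] at hrs
    by_cases h0 : aeval t (expand p s) = 0
    · exact ⟨0, 1, by simp, by rw [hrs, h0]; simp⟩
    · exact ⟨r, s, h0, hrs⟩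
  choose r s hs hrs using hmem
  let R : (σ → Fin p) → MvPolynomial σ k := fun e => r e * ∏ f ∈ Finset.univ.erase e, s f
  have hR : ∀ e, aeval t (expand p (R e)) = (∏ f, aeval t (expand p (s f))) * (c e : K) := by
    intro e
    rw [hrs, map_mul, map_mul, map_prod, map_prod,
      ← Finset.mul_prod_erase _ _ (Finset.mem_univ e), mul_comm _ (_ / _), ← mul_assoc,
      div_mul_cancel₀ _ (hs e)]
  have hzero : aeval t (∑ e, expand p (R e) *
      monomial (Finsupp.equivFunOnFinite.symm fun i => (e i : ℕ)) (1 : k)) = 0 := by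
    simp only [map_sum, map_mul, hR, ← mon_eq_aeval]
    simp only [mul_assoc, ← Finset.mul_sum]
    refine mul_eq_zero_of_right _ (Eq.trans (Finset.sum_congr rfl fun e _ => ?_) hc)
    rfl
  have hpoly := ht.eq_zero_of_aeval_eq_zero _ hzero
  intro e
  have hRe : R e = 0 := by
    ext m
    have h := congrArg (coeff (p • m + Finsupp.equivFunOnFinite.symm fun i => (e i : ℕ))) hpoly
    rw [coeff_zero, coeff_sum, Finset.sum_eq_single e] at h
    · rw [coeff_mul_monomial, mul_one, coeff_expand_smul _ hp.ne'] at h
      exact h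
    · intro f _ hfe
      rw [coeff_mul_monomial']
      split_ifs with hle
      · rw [mul_one]
        obtain ⟨i, hi⟩ := Function.ne_iff.1 hfe
        refine coeff_expand_of_not_dvd (i := i) _ fun hdvd => hi (Fin.ext ?_)
        have h1 := hle i
        simp only [Finsupp.coe_add, Pi.add_apply, Finsupp.coe_smul, Pi.smul_apply, smul_eq_mul,
          Finsupp.coe_equivFunOnFinite_symm, Finsupp.coe_tsub, Pi.sub_apply] at h1 hdvd
        have h3 : (p * m i + (e i : ℕ)) % p = (f i : ℕ) % p := by
          obtain ⟨q, hq⟩ := hdvd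
          rw [show p * m i + (e i : ℕ) = p * q + (f i : ℕ) by omega, Nat.mul_add_mod]
        rw [Nat.mul_add_mod, Nat.mod_eq_of_lt (e i).2, Nat.mod_eq_of_lt (f i).2] at h3
        exact h3.symm
      · rfl
    · intro h'; exact absurd (Finset.mem_univ e) h'
  have h2 := hR e
  rw [hRe, map_zero, map_zero] at h2
  exact Subtype.ext ((mul_eq_zero.1 h2.symm).resolve_left (Finset.prod_ne_zero_iff.2 fun f _ => hs f))

/-- An intermediate field from a subalgebra that is finite over the base. -/
noncomputable def fieldOfFinite {F E : Type*} [Field F] [Field E] [Algebra F E] (S : Subalgebra F E)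
    [FiniteDimensional F S] : IntermediateField F E :=
  S.toIntermediateField fun x hx => S.inv_mem_of_algebraic (x := ⟨x, hx⟩) ((Algebra.IsAlgebraic.isAlgebraic (R := F) (⟨x, hx⟩ : S)).algHom S.val)

variable [CharP k p]

theorem pow_mem_powField {x : K} (hx : x ∈ adjoin k (Set.range t)) : x ^ p ∈ powField p (k := k) t := by
  have : CharP K p := .of_ringHom_of_ne_zero (algebraMap k K) p (Fact.out : p.Prime).ne_zero
  induction hx using IntermediateField.adjoin_induction with
  | mem w hw =>
    obtain ⟨i, rfl⟩ := hw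
    exact subset_adjoin k _ ⟨i, rfl⟩
  | algebraMap c => rw [← map_pow]; exact IntermediateField.algebraMap_mem _ _
  | add a b _ _ ha hb => rw [add_pow_char]; exact add_mem ha hb
  | inv a _ ha => rw [inv_pow]; exact inv_mem ha
  | mul a b _ _ ha hb => rw [mul_pow]; exact mul_mem ha hb

theorem mem_span_mon [Fintype σ] {x : K} (hx : x ∈ adjoin k (Set.range t)) :
    x ∈ Submodule.span (powField p (k := k) t) (Set.range (mon p t)) := by
  classical
  let L' := powField p (k := k) t
  let N := Submodule.span L' (Set.range (mon p t))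
  have hp : 0 < p := (Fact.out : p.Prime).pos
  have hone : (1 : K) ∈ N := Submodule.subset_span ⟨fun _ => ⟨0, hp⟩, by simp [mon]⟩
  have hmm : ∀ e f, mon p t e * mon p t f ∈ N := by
    intro e f
    have : mon p t e * mon p t f =
        (∏ i, (t i ^ p) ^ (((e i : ℕ) + f i) / p)) * mon p t fun i => ⟨((e i : ℕ) + f i) % p, Nat.mod_lt _ hp⟩ := by
      rw [mon, mon, mon, ← Finset.prod_mul_distrib, ← Finset.prod_mul_distrib]
      refine Finset.prod_congr rfl fun i _ => ?_
      rw [← pow_mul, ← pow_add, ← pow_add, Nat.div_add_mod]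
    rw [this]
    have hc : (∏ i, (t i ^ p) ^ (((e i : ℕ) + f i) / p)) ∈ L' :=
      prod_mem fun i _ => pow_mem (subset_adjoin k (Set.range fun i => t i ^ p) ⟨i, rfl⟩) _
    exact N.smul_mem (⟨_, hc⟩ : L')
      (Submodule.subset_span ⟨_, rfl⟩)
  have hmul : ∀ a ∈ N, ∀ b ∈ N, a * b ∈ N := by
    intro a ha b hb
    have h := Submodule.mul_mem_mul ha hb
    rw [Submodule.span_mul_span] at h
    refine Submodule.span_le.2 ?_ h
    rintro _ ⟨_, ⟨e, rfl⟩, _, ⟨f, rfl⟩, rfl⟩
    exact hmm e f
  let S : Subalgebra L' K := N.toSubalgebra hone fun a b ha hb => hmul a ha b hb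
  have : FiniteDimensional L' S := FiniteDimensional.span_of_finite L' (Set.finite_range (mon p t))
  have hle : adjoin k (Set.range t) ≤ (fieldOfFinite S).restrictScalars k := by
    refine adjoin_le_iff.2 ?_
    rintro _ ⟨i, rfl⟩
    show t i ∈ N
    refine Submodule.subset_span ⟨fun j => if j = i then ⟨1, (Fact.out : p.Prime).one_lt⟩ else ⟨0, hp⟩, ?_⟩
    rw [mon, Finset.prod_eq_single i]
    · simp
    · intro j _ hj; simp [hj]
    · intro h; exact absurd (Finset.mem_univ i) h
  exact hle hx

variable (k) in
/-- For a finitely generated extension, separable over `k(t)`, the compositum of `k` and the `p`-th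
powers has index `p ^ #t`. -/
theorem finrank_eq [Fintype σ] (ht : AlgebraicIndependent k t)
    [FiniteDimensional (adjoin k (Set.range t)) K] [Algebra.IsSeparable (adjoin k (Set.range t)) K]
    (F : Subfield K) (hk : ∀ c : k, algebraMap k K c ∈ F) (hpow : ∀ x : K, x ^ p ∈ F)
    (hF : F ≤ Subfield.closure (Set.range (algebraMap k K) ∪ Set.range fun x : K => x ^ p)) :
    Module.finrank F K = p ^ Fintype.card σ := by
  classical
  let L := adjoin k (Set.range t)
  let L' := powField p (k := k) t
  have : CharP K p := .of_ringHom_of_ne_zero (algebraMap k K) p (Fact.out : p.Prime).ne_zero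
  have : ExpChar L p := .prime Fact.out
  have : ExpChar K p := .prime Fact.out
  have : CharP L p := .of_ringHom_of_ne_zero (algebraMap k L) p (Fact.out : p.Prime).ne_zero
  let M : IntermediateField k K := F.toIntermediateField hk
  let b := Module.finBasis L K
  let n := Module.finrank L K
  have hli : LinearIndependent L (fun i => b i ^ p) := by
    simpa using b.linearIndependent.map_pow_expChar_pow_of_isSeparable p 1
  have hspan : Submodule.span L (Set.range fun i => b i ^ p) = ⊤ :=
    hli.span_eq_top_of_card_eq_finrank' (by simp [n])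
  have hLM : L' ≤ M := adjoin_le_iff.2 (by rintro _ ⟨i, rfl⟩; exact hpow _)
  -- index of `L'` in `L`
  have hLL : L' ≤ L := adjoin_le_iff.2 (by rintro _ ⟨i, rfl⟩; exact pow_mem (subset_adjoin k (Set.range t) ⟨i, rfl⟩) _)
  have hK : ∀ x : K, x ∈ Submodule.span L' (Set.range fun q : (σ → Fin p) × Fin n => mon p t q.1 * b q.2 ^ p) := by
    intro x
    obtain ⟨c, rfl⟩ := (Submodule.mem_span_range_iff_exists_fun L).1 (hspan.ge (Submodule.mem_top : x ∈ _))
    refine Submodule.sum_mem _ fun i _ => ?_
    obtain ⟨a, ha⟩ := (Submodule.mem_span_range_iff_exists_fun L').1 (mem_span_mon p t (c i).2)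
    show (c i : K) * b i ^ p ∈ _
    rw [← ha, Finset.sum_mul]
    refine Submodule.sum_mem _ fun e _ => ?_
    rw [smul_mul_assoc]
    exact Submodule.smul_mem _ _ (Submodule.subset_span ⟨(e, i), rfl⟩)
  have hindep : LinearIndependent L' (fun q : (σ → Fin p) × Fin n => mon p t q.1 * b q.2 ^ p) := by
    rw [Fintype.linearIndependent_iff]
    intro a ha
    have h1 : ∀ e : σ → Fin p, mon p t e ∈ L := fun e =>
      prod_mem fun i _ => pow_mem (subset_adjoin k (Set.range t) ⟨i, rfl⟩) _
    rw [Fintype.sum_prod_type, Finset.sum_comm] at ha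
    have h2 := Fintype.linearIndependent_iff.1 hli
      (fun i => (⟨∑ e, (a (e, i) : K) * mon p t e, sum_mem fun e _ => mul_mem (hLL (a (e, i)).2) (h1 e)⟩ : L)) (by
        rw [← ha]
        refine Finset.sum_congr rfl fun i _ => ?_
        show (∑ e, (a (e, i) : K) * mon p t e) * b i ^ p = _
        rw [Finset.sum_mul]
        exact Finset.sum_congr rfl fun e _ => mul_assoc _ _ _)
    rintro ⟨e, i⟩
    exact Fintype.linearIndependent_iff.1 (linearIndependent_mon p t ht) (fun e => a (e, i))
      (congrArg Subtype.val (h2 i)) e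
  have hbig := Module.finrank_eq_card_basis (Module.Basis.mk hindep fun x _ => hK x)
  simp only [Fintype.card_prod, Fintype.card_fun, Fintype.card_fin] at hbig
  -- upper bound on the degree of `M` over `L'`
  let N := Submodule.span L' (Set.range fun i => b i ^ p)
  have hpowN : ∀ x : K, x ^ p ∈ N := by
    intro x
    rw [← b.sum_repr x, sum_pow_char]
    refine Submodule.sum_mem _ fun i _ => ?_
    show ((b.repr x i : K) * b i) ^ p ∈ N
    rw [mul_pow]
    exact N.smul_mem (⟨_, pow_mem_powField p t (b.repr x i).2⟩ : L') (Submodule.subset_span ⟨i, rfl⟩)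
  have hone : (1 : K) ∈ N := by simpa using hpowN 1
  have hmul : ∀ x ∈ N, ∀ y ∈ N, x * y ∈ N := by
    intro x hx y hy
    have h := Submodule.mul_mem_mul hx hy
    rw [Submodule.span_mul_span] at h
    refine Submodule.span_le.2 ?_ h
    rintro _ ⟨_, ⟨i, rfl⟩, _, ⟨j, rfl⟩, rfl⟩
    show b i ^ p * b j ^ p ∈ N
    rw [← mul_pow]
    exact hpowN _
  let S : Subalgebra L' K := N.toSubalgebra hone fun a b ha hb => hmul a ha b hb
  have : FiniteDimensional L' S := FiniteDimensional.span_of_finite L' (Set.finite_range _)
  have hMN : ∀ x ∈ F, x ∈ N := by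
    intro x hx
    have h : Subfield.closure (Set.range (algebraMap k K) ∪ Set.range fun x : K => x ^ p) ≤
        (fieldOfFinite S).toSubfield := by
      rw [Subfield.closure_le]
      rintro _ (⟨c, rfl⟩ | ⟨y, rfl⟩)
      · exact S.algebraMap_mem (⟨_, L'.algebraMap_mem c⟩ : L')
      · exact hpowN y
    exact h (hF hx)
  let M' : IntermediateField L' K := F.toIntermediateField fun c => hLM c.2
  have : Module.Finite L' N := Module.Finite.span_of_finite L' (Set.finite_range _)
  have hM1 : Module.finrank L' M' ≤ n := by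
    have h := Submodule.finrank_mono (s := M'.toSubalgebra.toSubmodule) (t := N) hMN
    exact h.trans ((finrank_range_le_card _).trans_eq (Fintype.card_fin n))
  have hM2 : Module.finrank M' K ≤ p ^ Fintype.card σ := by
    refine (finrank_le_of_span_eq_top (R := M') (v := fun e => mon p t e) ?_).trans_eq (by simp)
    rw [eq_top_iff]
    intro x _
    obtain ⟨a, ha⟩ := (Submodule.mem_span_range_iff_exists_fun L').1 (hK x)
    rw [← ha]
    refine Submodule.sum_mem _ fun q _ => ?_
    have : (a q • (mon p t q.1 * b q.2 ^ p) : K) = (⟨(a q : K) * b q.2 ^ p, mul_mem (hLM (a q).2) (hpow _)⟩ : M') • mon p t q.1 := by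
      show (a q : K) * (mon p t q.1 * b q.2 ^ p) = (a q : K) * b q.2 ^ p * mon p t q.1
      ring
    rw [this]
    exact Submodule.smul_mem _ _ (Submodule.subset_span ⟨q.1, rfl⟩)
  have hn : 0 < n := Module.finrank_pos
  have htow := Module.finrank_mul_finrank L' M' K
  rw [hbig] at htow
  have h3 : p ^ Fintype.card σ ≤ Module.finrank M' K := by
    by_contra hlt
    push Not at hlt
    have h4 : Module.finrank L' M' * Module.finrank M' K ≤ n * Module.finrank M' K :=
      Nat.mul_le_mul_right _ hM1
    rw [htow, mul_comm] at h4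
    exact absurd (Nat.le_of_mul_le_mul_left h4 hn) (by omega)
  exact le_antisymm hM2 h3

end Groth.Agent.FrobTwist31
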