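import Mathlib
import Groth.Prelude.Def_Frob
import Groth.Prelude.Def_CurvBase
import Groth.Agent.Frob53.RelFrobAffine
import Groth.Agent.VarGal.GeomRed

/-! The residue field of the Frobenius twist inside the residue field of the scheme. -/

set_option autoImplicit false
set_option backward.isDefEq.respectTransparency false
universe u

open CategoryTheory CategoryTheory.Limits AlgebraicGeometry TensorProduct

namespace Groth.Agent.FrobTwist31

theorem linearIndepOn_pow (p : ℕ) [hp : Fact p.Prime] {k K : Type u} [Field k] [CharP k p] [Field K] [Algebra k K]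
    [Algebra.IsGeometricallyReduced k K] (t : Finset K) (ht : LinearIndepOn k _root_.id (t : Set K)) :
    LinearIndepOn k (fun x => x ^ p) (t : Set K) := by
  have : CharP K p := .of_ringHom_of_ne_zero (algebraMap k K) p hp.out.ne_zero
  rw [LinearIndepOn, Fintype.linearIndependent_iff]
  intro c hc
  choose d hd using fun i => IsAlgClosed.exists_pow_nat_eq (algebraMap k (AlgebraicClosure k) (c i)) hp.out.pos
  have : CharP (AlgebraicClosure k ⊗[k] K) p :=
    charP_of_injective_ringHom
      (f := (Algebra.TensorProduct.includeRight : K →ₐ[k] AlgebraicClosure k ⊗[k] K).toRingHom)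
      (Algebra.TensorProduct.includeRight_injective (RingHom.injective _)) p
  have : ExpChar (AlgebraicClosure k ⊗[k] K) p := .prime hp.out
  have h0 : ∑ i, d i ⊗ₜ[k] ((i : K)) = 0 := by
    apply IsReduced.eq_zero
    refine ⟨p, ?_⟩
    rw [sum_pow_char]
    simp only [Algebra.TensorProduct.tmul_pow, hd, Algebra.algebraMap_eq_smul_one,
      TensorProduct.smul_tmul, ← TensorProduct.tmul_sum, hc, TensorProduct.tmul_zero]
  intro i
  have hd0 : d i = 0 := by
    let b := Module.Free.chooseBasis k (AlgebraicClosure k)
    apply b.repr.injective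
    ext j
    rw [map_zero, Finsupp.coe_zero, Pi.zero_apply]
    have h1 := congrArg (TensorProduct.lid k K ∘ (b.coord j).rTensor K) h0
    simp only [Function.comp_apply, map_sum, LinearMap.rTensor_tmul, TensorProduct.lid_tmul, map_zero] at h1
    exact Fintype.linearIndependent_iff.1 ht _ h1 i
  have := hd i
  rw [hd0, zero_pow hp.out.ne_zero] at this
  exact (map_eq_zero _).1 this.symm

theorem finrank_fieldRange {A B : Type u} [Field A] [Field B] (φ : A →+* B) :
    (letI := φ.toAlgebra; Module.finrank A B) = Module.finrank φ.fieldRange B := by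
  let : Algebra A B := φ.toAlgebra
  refine Algebra.finrank_eq_of_equiv_equiv
    (RingEquiv.ofBijective φ.rangeRestrictField ⟨φ.rangeRestrictField.injective, φ.rangeRestrictField_bijective.2⟩)
    (RingEquiv.refl B) ?_
  ext a
  rfl

variable (p : ℕ) [Fact p.Prime] {k : Type u} [Field k] [CharP k p] (X : Scheme.{u})
  [X.Over (Spec (CommRingCat.of k))] [IsIntegral X]

/-- The residue field of the generic point of the Frobenius twist is generated by the constants and
the `p`-th powers. -/
theorem image_residueField :
    let φ := ((FrobSch.relFrob (X ↘ Spec (CommRingCat.of k)) p).residueFieldMap (genericPoint X)).hom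
    (∀ c : k, Curv2.resMap k X (genericPoint X) c ∈ φ.fieldRange) ∧
    (∀ x, x ^ p ∈ φ.fieldRange) ∧
    φ.fieldRange ≤ Subfield.closure (Set.range (Curv2.resMap k X (genericPoint X)) ∪
      Set.range fun x : X.residueField (genericPoint X) => x ^ p) := by
  intro φ
  let S := Spec (CommRingCat.of k)
  let f := X ↘ S
  have : FrobSch.IsCharP X p := FrobSch.IsCharP.of_hom f p
  let η := genericPoint X
  let K := X.residueField η
  let F := FrobSch.relFrob f p
  let y := F η
  let κ := (FrobSch.frobTwist f p).residueField y
  let π₁ := pullback.fst f (FrobSch.frob S p)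
  let π₂ := pullback.snd f (FrobSch.frob S p)
  let iy := (FrobSch.frobTwist f p).fromSpecResidueField y
  let ρ := X.fromSpecResidueField η
  have : CharP K p := .of_ringHom_of_ne_zero (Curv2.resMap k X η) p (Fact.out : p.Prime).ne_zero
  have hF : Spec.map (F.residueFieldMap η) ≫ iy = ρ ≫ F := F.SpecMap_residueFieldMap_fromSpecResidueField η
  have hρ : ρ ≫ f = Spec.map (CommRingCat.ofHom (Curv2.resMap k X η)) := by
    rw [show CommRingCat.ofHom (Curv2.resMap k X η) = CommRingCat.ofHom (Curv2.stalkMap k X η) ≫ X.residue η from rfl,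
      Spec.map_comp, VarGal.SpecMap_curvStalkMap]
    simp [ρ, f, Scheme.fromSpecResidueField]
    rfl
  -- the two structure maps of the residue field of the twist
  let a : CommRingCat.of k ⟶ κ := Spec.preimage (iy ≫ π₂)
  have ha : Spec.map a = iy ≫ π₂ := Spec.map_preimage _
  have haφ : φ.comp a.hom = Curv2.resMap k X η := by
    have : a ≫ F.residueFieldMap η = CommRingCat.ofHom (Curv2.resMap k X η) := by
      apply Spec.map_injective
      rw [Spec.map_comp, ha, reassoc_of% hF, ← hρ, FrobSch.relFrob_snd]
    exact congrArg CommRingCat.Hom.hom this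
  have hπ : π₁ y = η := by
    show π₁ (F η) = η
    rw [← Scheme.Hom.comp_apply, FrobSch.relFrob_fst]
    rfl
  let b : K ⟶ κ := (X.residueFieldCongr hπ).inv ≫ π₁.residueFieldMap y
  have hb : Spec.map b ≫ ρ = iy ≫ π₁ := by
    rw [Spec.map_comp, Category.assoc, ← π₁.SpecMap_residueFieldMap_fromSpecResidueField y]
    congr 1
    show Spec.map (X.residueFieldCongr hπ).inv ≫ X.fromSpecResidueField η = _
    rw [← X.residueFieldCongr_fromSpecResidueField hπ, ← Spec.map_comp_assoc, Iso.hom_inv_id, Spec.map_id,
      Category.id_comp]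
  have hbφ : φ.comp b.hom = frobenius K p := by
    have : b ≫ F.residueFieldMap η = CommRingCat.ofHom (frobenius K p) := by
      apply Spec.map_injective
      rw [← cancel_mono ρ, Spec.map_comp, Category.assoc, hb, reassoc_of% hF, FrobSch.relFrob_fst,
        ← Frob53.frob_Spec p K]
      exact (FrobSch.frob_comp p ρ).symm
    exact congrArg CommRingCat.Hom.hom this
  -- the residue field is generated by the two images
  let E : Subfield κ := Subfield.closure (Set.range a.hom ∪ Set.range b.hom)
  have hEtop : E = ⊤ := by
    let a' : k →+* E := a.hom.codRestrict E fun c => Subfield.subset_closure (Or.inl ⟨c, rfl⟩)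
    let b' : K →+* E := b.hom.codRestrict E fun c => Subfield.subset_closure (Or.inr ⟨c, rfl⟩)
    have hcompat : (Spec.map (CommRingCat.ofHom b') ≫ ρ) ≫ f =
        Spec.map (CommRingCat.ofHom a') ≫ FrobSch.frob S p := by
      rw [Category.assoc, hρ, Frob53.frob_Spec p k, ← Spec.map_comp, ← Spec.map_comp]
      congr 1
      have h : (iy ≫ π₁) ≫ f = (iy ≫ π₂) ≫ FrobSch.frob S p := by
        rw [Category.assoc, Category.assoc]
        exact congrArg (iy ≫ ·) pullback.condition
      rw [← hb, ← ha, Category.assoc, hρ, Frob53.frob_Spec p k, ← Spec.map_comp, ← Spec.map_comp] at h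
      ext c
      exact RingHom.congr_fun (congrArg CommRingCat.Hom.hom (Spec.map_injective h)) c
    let l : Spec (CommRingCat.of E) ⟶ FrobSch.frobTwist f p :=
      pullback.lift (Spec.map (CommRingCat.ofHom b') ≫ ρ) (Spec.map (CommRingCat.ofHom a')) hcompat
    let i : CommRingCat.of E ⟶ κ := CommRingCat.ofHom E.subtype
    have hl : Spec.map i ≫ l = iy := by
      apply pullback.hom_ext
      · rw [Category.assoc, pullback.lift_fst, ← Category.assoc, ← Spec.map_comp]
        exact hb
      · rw [Category.assoc, pullback.lift_snd, ← Spec.map_comp]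
        exact ha
    obtain ⟨⟨y', c⟩, hc⟩ := (Scheme.SpecToEquivOfField E (FrobSch.frobTwist f p)).symm.surjective l
    have hc' : Spec.map c ≫ (FrobSch.frobTwist f p).fromSpecResidueField y' = l := hc
    have hy : y' = y := by
      let z : Spec κ := Classical.arbitrary _
      have h1 : iy z ∈ Set.range iy := ⟨z, rfl⟩
      have h2 : l (Spec.map i z) ∈ Set.range l := ⟨_, rfl⟩
      rw [← hl] at h1
      have h3 : l (Spec.map i z) ∈ Set.range ((FrobSch.frobTwist f p).fromSpecResidueField y') := by
        rw [← hc']; exact ⟨_, rfl⟩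
      rw [Scheme.range_fromSpecResidueField, ← Scheme.Hom.comp_apply, hl] at h3
      have h4 : iy z ∈ Set.range iy := ⟨z, rfl⟩
      rw [Scheme.range_fromSpecResidueField] at h4
      exact h3.symm.trans h4
    subst hy
    have hid : c ≫ i = 𝟙 κ := by
      apply Spec.map_injective
      rw [← cancel_mono iy, Spec.map_comp, Category.assoc, hc', hl, Spec.map_id, Category.id_comp]
    refine eq_top_iff.2 fun x _ => ?_
    have hx := RingHom.congr_fun (congrArg CommRingCat.Hom.hom hid) x
    exact (show ((c.hom x : E) : κ) = x from hx) ▸ (c.hom x).2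
  refine ⟨fun c => ⟨a.hom c, RingHom.congr_fun haφ c⟩, fun x => ⟨b.hom x, RingHom.congr_fun hbφ x⟩, ?_⟩
  rw [RingHom.fieldRange_eq_map, ← hEtop, RingHom.map_field_closure, Subfield.closure_le]
  rintro _ ⟨z, ⟨c, rfl⟩ | ⟨c, rfl⟩, rfl⟩
  · exact Subfield.subset_closure (Or.inl ⟨c, (RingHom.congr_fun haφ c).symm⟩)
  · exact Subfield.subset_closure (Or.inr ⟨c, (RingHom.congr_fun hbφ c).symm⟩)

end Groth.Agent.FrobTwist31
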